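import Cfsg.Agent.H744.FC.CentTheta

/-!
# `F₄(q)`, `q ≥ 3`: `M = MM K` (type `C₃`) is generated by the `M`-conjugates of the root group of the long simple
root `2` (S2452, third part of the box (X))
-/

set_option autoImplicit false
set_option linter.unusedSectionVars false

namespace Cfsg.Agent.H744.FR

open CoxeterSystem Cfsg.Agent.ChevalleyStructure.CoxeterGeom Cfsg.Agent.Tits.Roots Cfsg.Agent.Tits.Core
  Cfsg.Agent.Tits.Exchange Cfsg.Agent.Nodes.Reps Cfsg.Agent.Nodes.BNOf Cfsg.Agent.Nodes.StabComb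
  Cfsg.Agent.Nodes.Bruhat Cfsg.Agent.Nodes.OppDec Cfsg.Agent.Nodes.LeviDec Cfsg.Agent.Nodes.NormX
  Cfsg.Agent.Nodes.Coroot Cfsg.Agent.Nodes.RGDChev Cfsg.Agent.KFacts.RgdPar Cfsg.Agent.KFacts.RgdTI
  Cfsg.Agent.KFacts.RgdCent Cfsg.Agent.KFacts.RgdChevCoord Cfsg.Agent.Nodes.ChevCls
  Cfsg.Agent.OddHalf.NI.ModelChev Cfsg.Agent.H225.PPow
open Cfsg.Lie Cfsg.Agent.ChevalleyStructure Cfsg.Agent.ChevalleyStructure.Elts
  Cfsg.Agent.ChevalleyStructure.RootVec Cfsg.Agent.ChevalleyStructure.NPerm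
  Cfsg.Agent.ChevalleyStructure.CoxeterGeomTypes
open Cfsg.Agent.FixBN.FieldRGD (uu vv dd ww)
open Cfsg.Agent.H701.F43.Cent (hF cF nroots VV MM J3 mem_RootsJ)

universe u

variable (K : Type u) [Field K]

/-- the subgroup generated by the conjugates of the root group of the node `2` -/
def NN : Subgroup ↥(chevF4.group K) :=
  Subgroup.closure {x | ∃ m ∈ MM K, ∃ y ∈ XX chevF4 4 K (sr 2), x = m * y * m⁻¹}

theorem tab1 : ∀ r < 48, (vec chevF4 4 r = sr 1 ∨ vec chevF4 4 r = -sr 1) →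
    (chevF4.cartan (2 : Fin 4) r = 1 ∨ chevF4.cartan (2 : Fin 4) r = -1) := by decide +kernel

theorem tab0 : ∀ r < 48, (vec chevF4 4 r = sr 0 ∨ vec chevF4 4 r = -sr 0) →
    (chevF4.cartan (1 : Fin 4) r = 1 ∨ chevF4.cartan (1 : Fin 4) r = -1) := by decide +kernel

variable {K}

theorem NN_conj {m x : ↥(chevF4.group K)} (hm : m ∈ MM K) (hx : x ∈ NN K) : m * x * m⁻¹ ∈ NN K := by
  have h1 : NN K ≤ (NN K).comap (MulAut.conj m).toMonoidHom := by
    unfold NN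
    rw [Subgroup.closure_le]
    rintro _ ⟨m', hm', y, hy, rfl⟩
    refine Subgroup.subset_closure ⟨m * m', mul_mem hm hm', y, hy, ?_⟩
    show m * (m' * y * m'⁻¹) * m⁻¹ = _
    group
  exact h1 hx

theorem sr_memJ {i : Fin 4} (hi : i ≠ 3) : sr i ∈ RootsJ cF hF.isCartan J3 := by
  rw [mem_RootsJ]
  exact ⟨isRoot_sr _ _ i, sr_ne (Ne.symm hi)⟩

theorem nsr_memJ {i : Fin 4} (hi : i ≠ 3) : -sr i ∈ RootsJ cF hF.isCartan J3 := RootsJ.neg (sr_memJ hi)

theorem X_le_MM {x : Fin 4 → ℤ} (hx : x ∈ RootsJ cF hF.isCartan J3) : XX chevF4 4 K x ≤ MM K := RGD.le_Sup hx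

theorem sl_mem_MM {i : Fin 4} (hi : i ≠ 3) (g : Matrix.SpecialLinearGroup (Fin 2) K) : sl hF (K := K) i g ∈ MM K := by
  have h1 : sl hF (K := K) i g ∈ XX chevF4 4 K (sr i) ⊔ XX chevF4 4 K (-sr i) := by
    rw [← range_sl hF i]
    exact ⟨g, rfl⟩
  exact (sup_le (X_le_MM (sr_memJ hi)) (X_le_MM (nsr_memJ hi))) h1

theorem nc_mem_MM {i : Fin 4} (hi : i ≠ 3) : nc hF K i ∈ MM K := by
  rw [← sl_ww hF i]
  exact sl_mem_MM hi _

theorem X2_le : XX chevF4 4 K (sr 2) ≤ NN K := fun y hy =>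
  Subgroup.subset_closure ⟨1, one_mem _, y, hy, by group⟩

theorem hc_mem_NN {i : Fin 4} (h1 : XX chevF4 4 K (sr i) ≤ NN K) (h2 : XX chevF4 4 K (-sr i) ≤ NN K) (u : Kˣ) :
    hc hF i (u : K) ∈ NN K := by
  have h3 : hc hF i (u : K) ∈ XX chevF4 4 K (sr i) ⊔ XX chevF4 4 K (-sr i) := by
    rw [← range_sl hF i, ← sl_dd hF i (u : K) u.ne_zero]
    exact ⟨_, rfl⟩
  exact (sup_le h1 h2) h3

variable [Finite K]

theorem conj_simple {i : Fin 4} (hi : i ≠ 3) {x : Fin 4 → ℤ} (hx : IsRoot cF hF.isCartan x)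
    (h : XX chevF4 4 K x ≤ NN K) : XX chevF4 4 K (rep cF hF.isCartan (cF.simple i) x) ≤ NN K := by
  obtain ⟨p, hpc⟩ := CharP.exists K
  have : Fact p.Prime := ⟨CharP.char_is_prime K p⟩
  have h1 := (rgd (K := K) hF cF p).conj i x hx
  intro z hz
  have h2 : z ∈ cj (nc hF K i) (XX chevF4 4 K x) := by
    rw [show cj (nc hF K i) (XX chevF4 4 K x) = XX chevF4 4 K (rep cF hF.isCartan (cF.simple i) x) from h1]
    exact hz
  obtain ⟨y, hy, rfl⟩ := h2
  exact NN_conj (nc_mem_MM hi) (h hy)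

/-- the torus of a node on a root group -/
theorem step (h3 : 3 ≤ Nat.card K) {j : Fin 4} (hj : ∀ u : Kˣ, hc hF j (u : K) ∈ NN K) {x : Fin 4 → ℤ}
    (hx : x ∈ RootsJ cF hF.isCartan J3)
    (hc' : ∀ r < 48, vec chevF4 4 r = x → (chevF4.cartan j r = 1 ∨ chevF4.cartan j r = -1)) :
    XX chevF4 4 K x ≤ NN K := by
  obtain ⟨p, hpc⟩ := CharP.exists K
  have : Fact p.Prime := ⟨CharP.char_is_prime K p⟩
  obtain ⟨r, hr, rfl⟩ := (isRoot_iff hF cF x).1 hx.1
  have hcr := hc' r (by rw [← nroots]; exact hr) rfl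
  have C := (coords (K := K) hF cF p).coord _ hx.1
  intro z hz
  obtain ⟨a, rfl⟩ := (C.mem z).1 hz
  obtain ⟨u, hu⟩ : ∃ u : Kˣ, u ≠ 1 := by
    have h1 : 1 < Nat.card Kˣ := by rw [Nat.card_units]; omega
    have : Nontrivial Kˣ := (Finite.one_lt_card_iff_nontrivial).1 h1
    exact exists_ne 1
  obtain ⟨c, hc1, hcu⟩ : ∃ c : K, c ≠ 1 ∧ ∀ b, hc hF j (u : K) * xc hF (vec chevF4 4 r) b * (hc hF j (u : K))⁻¹ =
      xc hF (vec chevF4 4 r) (c * b) := by
    refine ⟨(u : K) ^ chevF4.cartan j r, ?_, fun b => ?_⟩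
    · have hu' : (u : K) ≠ 1 := fun h => hu (Units.ext h)
      rcases hcr with h | h
      · rwa [h, zpow_one]
      · rw [h, zpow_neg_one]
        exact fun h => hu' (inv_eq_one.1 h)
    · have h2 := (act hF hr (hc_mem hF j u.ne_zero)).2 b
      rw [ch_hc hF j u.ne_zero hr] at h2
      exact h2
  have hb : ∀ b, xc hF (vec chevF4 4 r) b ∈ MM K := fun b => X_le_MM hx ((C.mem _).2 ⟨b, rfl⟩)
  have h1 : a = c * (a / (c - 1)) + -(a / (c - 1)) := by
    have : c - 1 ≠ 0 := sub_ne_zero.2 hc1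
    field_simp
    ring
  have hneg : xc hF (vec chevF4 4 r) (-(a / (c - 1))) = (xc hF (vec chevF4 4 r) (a / (c - 1)))⁻¹ := by
    rw [eq_inv_iff_mul_eq_one, ← C.add, neg_add_cancel, C.zero]
  rw [h1, C.add, ← hcu, hneg]
  have h4 : hc hF j (u : K) * xc hF (vec chevF4 4 r) (a / (c - 1)) * (hc hF j (u : K))⁻¹ *
      (xc hF (vec chevF4 4 r) (a / (c - 1)))⁻¹ = hc hF j (u : K) * (xc hF (vec chevF4 4 r) (a / (c - 1)) *
        (hc hF j (u : K))⁻¹ * (xc hF (vec chevF4 4 r) (a / (c - 1)))⁻¹) := by group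
  rw [h4]
  exact mul_mem (hj u) (NN_conj (hb _) (inv_mem (hj u)))

theorem XJ_le (h3 : 3 ≤ Nat.card K) {i : Fin 4} (hi : i ≠ 3) : XX chevF4 4 K (sr i) ≤ NN K := by
  have hn2 : XX chevF4 4 K (-sr 2) ≤ NN K := by
    have h1 := conj_simple (K := K) (i := 2) (by decide) (isRoot_sr cF hF.isCartan 2) X2_le
    rwa [rep_simple_sr] at h1
  have h2 := hc_mem_NN X2_le hn2
  have h1 : XX chevF4 4 K (sr 1) ≤ NN K :=
    step h3 h2 (sr_memJ (by decide)) (fun r hr h => tab1 r hr (Or.inl h))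
  have hn1 : XX chevF4 4 K (-sr 1) ≤ NN K :=
    step h3 h2 (nsr_memJ (by decide)) (fun r hr h => tab1 r hr (Or.inr h))
  have h0 : XX chevF4 4 K (sr 0) ≤ NN K :=
    step h3 (hc_mem_NN h1 hn1) (sr_memJ (by decide)) (fun r hr h => tab0 r hr (Or.inl h))
  fin_cases i
  · exact h0
  · exact h1
  · exact X2_le
  · exact absurd rfl hi

/-- **`M` is generated by the conjugates of one long root group.** -/
theorem MM_gen (h3 : 3 ≤ Nat.card K) :
    MM K ≤ Subgroup.closure {x | ∃ m ∈ MM K, ∃ y ∈ XX chevF4 4 K (sr 2), x = m * y * m⁻¹} := by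
  have hW := finite_W hF cF
  refine RGD.Sup_le fun x hx => ?_
  obtain ⟨w, hw, j, hj, rfl⟩ := exists_of_mem_RootsJ hx
  have key : ∀ w ∈ WJ cF J3, ∀ x, IsRoot cF hF.isCartan x →
      (XX chevF4 4 K x ≤ NN K ↔ XX chevF4 4 K (rep cF hF.isCartan w x) ≤ NN K) := by
    intro w hw
    induction hw using Subgroup.closure_induction with
    | mem w hw =>
      obtain ⟨i, hi, rfl⟩ := hw
      intro x hx
      refine ⟨conj_simple hi hx, fun h => ?_⟩
      have h1 := conj_simple hi (hx.act _) h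
      rwa [← rep_mul_apply, cF.simple_mul_simple_self, map_one, Module.End.one_apply] at h1
    | one =>
      intro x _
      rw [map_one, Module.End.one_apply]
    | mul a b _ _ ha hb =>
      intro x hx
      rw [rep_mul_apply, hb x hx, ha _ (hx.act _)]
    | inv a _ ha =>
      intro x hx
      rw [ha _ (hx.act _), rep_apply_inv]
  exact (key w hw _ (isRoot_sr cF hF.isCartan j)).1 (XJ_le h3 hj)

/-- an element of `M` which is not central in `M` does not centralise some conjugate -/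
theorem exists_x (h3 : 3 ≤ Nat.card K) {l : ↥(chevF4.group K)} (hne : ∃ m ∈ MM K, m * l ≠ l * m) :
    ∃ m ∈ MM K, ∃ y ∈ XX chevF4 4 K (sr 2), l * (m * y * m⁻¹) ≠ (m * y * m⁻¹) * l := by
  by_contra hcon
  push Not at hcon
  obtain ⟨m, hm, hml⟩ := hne
  apply hml
  have h1 : Subgroup.closure {x | ∃ m ∈ MM K, ∃ y ∈ XX chevF4 4 K (sr 2), x = m * y * m⁻¹} ≤
      Subgroup.centralizer ({l} : Set ↥(chevF4.group K)) := by
    rw [Subgroup.closure_le]
    rintro _ ⟨m, hm, y, hy, rfl⟩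
    exact Subgroup.mem_centralizer_singleton_iff.2 (hcon m hm y hy).symm
  exact Subgroup.mem_centralizer_singleton_iff.1 (h1 (MM_gen h3 hm))

end Cfsg.Agent.H744.FR
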