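import Cfsg.Agent.H744.FR.Gen
import Cfsg.Agent.H374.FR.Comm
import Cfsg.Agent.H129.Tor
import Cfsg.Agent.Nodes.ClsPair

/-!
# `F₄(q)`, `q` odd: the central element of `M = MM K` (type `C₃`) acts as `-1` on `V / Z` (S2452, box (X), part (c))

* `mem_TT` : an element of `M` which is central in `M` is in the torus;
* `neg_one` : if it is `≠ 1` then it acts as `-1` on the root groups `X_r`, `r 3 = 1`;
* `central` : `{x ∈ V : [x, l] ∈ Z}` has at most `q ^ 12` elements.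
-/

set_option autoImplicit false
set_option linter.unusedSectionVars false

namespace Cfsg.Agent.H744.FR

open CoxeterSystem Cfsg.Agent.ChevalleyStructure.CoxeterGeom Cfsg.Agent.Tits.Roots Cfsg.Agent.Tits.Core
  Cfsg.Agent.Tits.Exchange Cfsg.Agent.Nodes.Reps Cfsg.Agent.Nodes.BNOf Cfsg.Agent.Nodes.StabComb
  Cfsg.Agent.Nodes.Bruhat Cfsg.Agent.Nodes.OppDec Cfsg.Agent.Nodes.LeviDec Cfsg.Agent.Nodes.NormX
  Cfsg.Agent.Nodes.Coroot Cfsg.Agent.Nodes.RGDChev Cfsg.Agent.KFacts.RgdPar Cfsg.Agent.KFacts.RgdTI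
  Cfsg.Agent.KFacts.RgdCent Cfsg.Agent.KFacts.RgdChevCoord Cfsg.Agent.Nodes.ChevCls
  Cfsg.Agent.OddHalf.NI.ModelChev Cfsg.Agent.H225.PPow
open Cfsg.Lie Cfsg.Agent.ChevalleyStructure Cfsg.Agent.ChevalleyStructure.Elts
  Cfsg.Agent.ChevalleyStructure.RootVec Cfsg.Agent.ChevalleyStructure.NPerm
  Cfsg.Agent.ChevalleyStructure.CoxeterGeomTypes
open Cfsg.Agent.H701.F43.Cent (hF cF nroots VV MM J3 mem_RootsJ mem_NotJ comm_theta isRoot_theta)
open Cfsg.Agent.H520.FC (PK VK XT)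

universe u

variable {K : Type u} [Field K]

theorem tabP : ∀ r < 48, vec chevF4 4 r 3 = 1 → (chevF4.cartan (0 : ℕ) r + chevF4.cartan (2 : ℕ) r) % 2 = 1 := by
  decide +kernel

theorem tabV2 : ∀ r < 48, 0 < vec chevF4 4 r 3 → vec chevF4 4 r 3 = 1 ∨ r = 47 := by decide +kernel

theorem tabC : chevF4.rank = 4 ∧
    chevF4.cartan 0 (chevF4.simple 0) = 2 ∧ chevF4.cartan 1 (chevF4.simple 0) = -1 ∧
    chevF4.cartan 2 (chevF4.simple 0) = 0 ∧ chevF4.cartan 3 (chevF4.simple 0) = 0 ∧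
    chevF4.cartan 0 (chevF4.simple 1) = -1 ∧ chevF4.cartan 1 (chevF4.simple 1) = 2 ∧
    chevF4.cartan 2 (chevF4.simple 1) = -1 ∧ chevF4.cartan 3 (chevF4.simple 1) = 0 ∧
    chevF4.cartan 0 (chevF4.simple 2) = 0 ∧ chevF4.cartan 1 (chevF4.simple 2) = -2 ∧
    chevF4.cartan 2 (chevF4.simple 2) = 2 ∧ chevF4.cartan 3 (chevF4.simple 2) = -1 ∧
    chevF4.cartan 0 47 = 0 ∧ chevF4.cartan 1 47 = 0 ∧ chevF4.cartan 2 47 = 0 ∧ chevF4.cartan 3 47 = 1 := by
  decide +kernel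

variable [Finite K]

theorem norm_of {l : ↥(chevF4.group K)} (hl : l ∈ MM K) (hc : ∀ m ∈ MM K, m * l = l * m)
    {S : Set (Fin 4 → ℤ)} {V : Subgroup ↥(chevF4.group K)} (hV : V ≤ RGD.Sup (XX chevF4 4 K) S)
    (hLV : MM K ≤ Subgroup.normalizer (V : Set ↥(chevF4.group K)))
    (hS : ∀ x ∈ S, x ∈ RootsJ cF hF.isCartan J3 ∨ XX chevF4 4 K x ≤ V) :
    l ∈ Subgroup.normalizer (RGD.Sup (XX chevF4 4 K) S : Set ↥(chevF4.group K)) := by
  have key : ∀ l : ↥(chevF4.group K), l ∈ MM K → (∀ m ∈ MM K, m * l = l * m) →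
      ∀ y ∈ RGD.Sup (XX chevF4 4 K) S, l * y * l⁻¹ ∈ RGD.Sup (XX chevF4 4 K) S := by
    intro l hl hc
    have h1 : RGD.Sup (XX chevF4 4 K) S ≤ (RGD.Sup (XX chevF4 4 K) S).comap (MulAut.conj l).toMonoidHom := by
      refine RGD.Sup_le fun x hx y hy => ?_
      show l * y * l⁻¹ ∈ RGD.Sup (XX chevF4 4 K) S
      rcases hS x hx with h | h
      · rw [← hc y (X_le_MM h hy), mul_inv_cancel_right]
        exact RGD.le_Sup (X := XX chevF4 4 K) hx hy
      · exact hV ((Subgroup.mem_normalizer_iff.1 (hLV hl) y).1 (h hy))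
    exact fun y hy => h1 hy
  rw [Subgroup.mem_normalizer_iff]
  refine fun y => ⟨fun hy => key l hl hc y hy, fun hy => ?_⟩
  have h2 := key l⁻¹ (inv_mem hl) (fun m hm => by
    have h3 := hc m hm
    rw [mul_inv_eq_iff_eq_mul, mul_assoc, h3]
    group) _ hy
  rwa [show l⁻¹ * (l * y * l⁻¹) * l⁻¹⁻¹ = y by group] at h2

theorem GG_top : GG cF hF.isCartan (TT chevF4 K) (XX chevF4 4 K) = ⊤ := by
  rw [eq_top_iff, ← G1_eq_top hF (K := K) cF]
  exact le_sup_right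

/-- an element of `M` central in `M` is in the torus -/
theorem mem_TT {l : ↥(chevF4.group K)} (hl : l ∈ MM K) (hc : ∀ m ∈ MM K, m * l = l * m) : l ∈ TT chevF4 K := by
  obtain ⟨p, hpc⟩ := CharP.exists K
  have : Fact p.Prime := ⟨CharP.char_is_prime K p⟩
  have hW := finite_W hF cF
  have R := rgd (K := K) hF cF p
  have hLJ : MM K ≤ LJ cF hF.isCartan (TT chevF4 K) (XX chevF4 4 K) J3 := le_sup_right
  have h1 : l ∈ Subgroup.normalizer (RGD.Sup (XX chevF4 4 K) (RGD.Pos cF hF.isCartan) : Set ↥(chevF4.group K)) := by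
    refine norm_of hl hc (V := VJ cF hF.isCartan (XX chevF4 4 K) J3) (VJ_le_U J3)
      (le_trans hLJ (LJ_le_normalizer_VJ R J3)) fun x hx => ?_
    rcases (hx.2 3).lt_or_eq with h | h
    · exact Or.inr (RGD.le_Sup (mem_NotJ.2 ⟨hx.1, h⟩))
    · exact Or.inl (mem_RootsJ.2 ⟨hx.1, h.symm⟩)
  have h2 : l ∈ Subgroup.normalizer (UN cF hF.isCartan (XX chevF4 4 K) : Set ↥(chevF4.group K)) := by
    refine norm_of hl hc (V := VNJ cF hF.isCartan (XX chevF4 4 K) J3)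
      (RGD.Sup_mono fun _ hx => ⟨NotNJ.isRoot hx, neg_nonneg.1 hx.2.1⟩)
      (le_trans hLJ (LJ_le_normalizer_VNJ R J3)) fun x hx => ?_
    rcases (hx.2 3).lt_or_eq with h | h
    · refine Or.inr (RGD.le_Sup ?_)
      show -x ∈ NotJ cF hF.isCartan J3
      rw [mem_NotJ]
      exact ⟨hx.1.neg, by rw [Pi.neg_apply]; exact neg_pos.2 h⟩
    · exact Or.inl (mem_RootsJ.2 ⟨hx.1, h⟩)
  have h3 : l ∈ GG cF hF.isCartan (TT chevF4 K) (XX chevF4 4 K) := by rw [GG_top]; trivial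
  have h4 : l ∈ RGD.B cF hF.isCartan (TT chevF4 K) (XX chevF4 4 K) := by
    rw [← Cfsg.Agent.Nodes.NormalForm.normalizer_U R]
    exact ⟨h1, h3⟩
  have h5 : l ∈ BN cF hF.isCartan (TT chevF4 K) (XX chevF4 4 K) :=
    Cfsg.Agent.Nodes.ClsPair.normalizer_UN R ⟨h2, h3⟩
  exact (B_inf_BN R).le ⟨h4, h5⟩

/-- it acts as `-1` -/
theorem neg_one {l : ↥(chevF4.group K)} (hl : l ∈ MM K) (hl1 : l ≠ 1) (hc : ∀ m ∈ MM K, m * l = l * m) {s : ℕ}
    (hs : s < 48) (hs1 : vec chevF4 4 s 3 = 1) (a : K) :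
    l * xc hF (vec chevF4 4 s) a * l⁻¹ = xc hF (vec chevF4 4 s) (-a) := by
  obtain ⟨p, hpc⟩ := CharP.exists K
  have : Fact p.Prime := ⟨CharP.char_is_prime K p⟩
  have hT := mem_TT hl hc
  obtain ⟨t0, t1, t2, t3, t4, t5, t6, t7, t8, t9, t10, t11, t12, t13, t14, t15, t16⟩ := tabC
  obtain ⟨c, hc0, hm, hact⟩ := Cfsg.Agent.H129.Tor.exists_c hF (F := K) (t := (l : GL chevF4.Idx K)) hT
  rw [t0] at hc0
  simp only [t0] at hm hact
  have hact' : ∀ r < 48, ∀ a : K, l * xc hF (vec chevF4 4 r) a * l⁻¹ =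
      xc hF (vec chevF4 4 r) ((∏ i ∈ Finset.range 4, c i ^ chevF4.cartan i r) * a) := by
    intro r hr a
    have hr' : r < chevF4.nroots := by rw [nroots]; exact hr
    apply Subtype.ext
    rw [Subgroup.coe_mul, Subgroup.coe_mul, Subgroup.coe_inv, coe_xc hF hr', coe_xc hF hr']
    exact hact r hr' a
  have key : ∀ r < 48, (∀ y ∈ XX chevF4 4 K (vec chevF4 4 r), y * l = l * y) →
      ∏ i ∈ Finset.range 4, c i ^ chevF4.cartan i r = 1 := by
    intro r hr h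
    have hr' : r < chevF4.nroots := by rw [nroots]; exact hr
    have hb : IsRoot cF hF.isCartan (vec chevF4 4 r) := (isRoot_iff hF cF _).2 ⟨r, hr', rfl⟩
    have C := (coords (K := K) hF cF p).coord _ hb
    have h1 := hact' r hr 1
    rw [← h _ ((C.mem _).2 ⟨1, rfl⟩), mul_inv_cancel_right, mul_one] at h1
    exact (C.inj h1).symm
  have hsJ : ∀ i : Fin 4, i ≠ 3 → ∏ k ∈ Finset.range 4, c k ^ chevF4.cartan k (chevF4.simple i) = 1 := by
    intro i hi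
    refine key _ (by rw [← nroots]; exact RootVec.simple_lt hF.checked (lt_rank hF i)) fun y hy => ?_
    rw [vec_simple hF i] at hy
    exact hc y (X_le_MM (sr_memJ hi) hy)
  have e0 := hsJ 0 (by decide)
  have e1 := hsJ 1 (by decide)
  have e2 := hsJ 2 (by decide)
  have e3 := key 47 (by norm_num) fun y hy => (comm_theta (le_sup_right (a := VV K) hl) hy).symm
  have c0 := hc0 0 (by norm_num)
  have c1 := hc0 1 (by norm_num)
  have c2 := hc0 2 (by norm_num)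
  simp only [Finset.prod_range_succ, Finset.prod_range_zero, one_mul] at e0 e1 e2 e3
  have f3 : c 3 = 1 := by
    rw [t13, t14, t15, t16] at e3
    simpa using e3
  have f1 : c 1 = c 0 ^ 2 := by
    have h : c 0 ^ chevF4.cartan 0 (chevF4.simple 0) * c 1 ^ chevF4.cartan 1 (chevF4.simple 0) *
      c 2 ^ chevF4.cartan 2 (chevF4.simple 0) * c 3 ^ chevF4.cartan 3 (chevF4.simple 0) = 1 := e0
    rw [t1, t2, t3, t4, zpow_zero, zpow_zero, mul_one, mul_one, zpow_neg_one, mul_inv_eq_one₀ c1] at h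
    rw [← h]
    norm_cast
  have f2 : c 2 = c 0 ^ 3 := by
    have h : c 0 ^ chevF4.cartan 0 (chevF4.simple 1) * c 1 ^ chevF4.cartan 1 (chevF4.simple 1) *
      c 2 ^ chevF4.cartan 2 (chevF4.simple 1) * c 3 ^ chevF4.cartan 3 (chevF4.simple 1) = 1 := e1
    rw [t5, t6, t7, t8, zpow_zero, mul_one, zpow_neg_one, zpow_neg_one, mul_inv_eq_one₀ c2, f1] at h
    rw [← h]
    field_simp
  have f0 : c 0 ^ 2 = 1 := by
    have h : c 0 ^ chevF4.cartan 0 (chevF4.simple 2) * c 1 ^ chevF4.cartan 1 (chevF4.simple 2) *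
      c 2 ^ chevF4.cartan 2 (chevF4.simple 2) * c 3 ^ chevF4.cartan 3 (chevF4.simple 2) = 1 := e2
    rw [t9, t10, t11, t12, zpow_zero, one_mul, f3, one_zpow, mul_one, f1, f2] at h
    have h' : (c 0 ^ 2) ^ (-2 : ℤ) * (c 0 ^ 3) ^ (2 : ℤ) = c 0 ^ 2 := by
      rw [zpow_neg, inv_mul_eq_iff_eq_mul₀ (zpow_ne_zero _ (pow_ne_zero _ c0))]
      norm_cast
      ring
    rw [← h', h]
  rw [f0] at f1
  have f2' : c 2 = c 0 := by rw [f2, pow_succ, f0, one_mul]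
  have hval : ∀ r, ∏ i ∈ Finset.range 4, c i ^ chevF4.cartan i r = c 0 ^ (chevF4.cartan 0 r + chevF4.cartan 2 r) := by
    intro r
    simp only [Finset.prod_range_succ, Finset.prod_range_zero, one_mul]
    rw [f1, f3, one_zpow, one_zpow, mul_one, mul_one, f2', zpow_add₀ c0]
  have h01 : c 0 = 1 ∨ c 0 = -1 := by
    have h1 : (c 0 - 1) * (c 0 + 1) = 0 := by linear_combination f0
    rcases mul_eq_zero.1 h1 with h | h
    · exact Or.inl (sub_eq_zero.1 h)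
    · exact Or.inr (eq_neg_of_add_eq_zero_left h)
  rcases h01 with h | h
  · exfalso
    apply hl1
    apply Subtype.ext
    apply Units.ext
    rw [hm]
    show _ = (1 : Matrix chevF4.Idx chevF4.Idx K)
    rw [← Matrix.diagonal_one]
    congr 1
    funext x
    rcases x with x | x
    · rfl
    · show ∏ i ∈ Finset.range 4, c i ^ chevF4.cartan i x = 1
      rw [hval, h, one_zpow]
  · rw [hact' s hs, hval, h, Odd.neg_one_zpow (Int.odd_iff.2 (tabP s hs hs1)), neg_one_mul]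

/-- `[x, l] ∈ Z` for `x ∈ V` only if `x ∈ Z` -/
theorem conj_mul {l : ↥(chevF4.group K)} (hl : l ∈ MM K) (hl1 : l ≠ 1) (hc : ∀ m ∈ MM K, m * l = l * m)
    {x : ↥(chevF4.group K)} (hx : x ∈ VV K) : l * x * l⁻¹ * x ∈ XT K := by
  obtain ⟨p, hpc⟩ := CharP.exists K
  have : Fact p.Prime := ⟨CharP.char_is_prime K p⟩
  have hcen : ∀ v ∈ VV K, ∀ z ∈ XT K, v * z = z * v := fun v hv z hz => comm_theta (le_sup_left (b := MM K) hv) hz
  let S : Subgroup ↥(chevF4.group K) :=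
    { carrier := {x | x ∈ VV K ∧ l * x * l⁻¹ * x ∈ XT K}
      one_mem' := ⟨one_mem _, by
        rw [mul_one, mul_one, mul_inv_cancel]
        exact one_mem _⟩
      mul_mem' := by
        rintro x y ⟨hx, hx'⟩ ⟨hy, hy'⟩
        refine ⟨mul_mem hx hy, ?_⟩
        have h1 : l * (x * y) * l⁻¹ * (x * y) = (l * x * l⁻¹ * x) * (x⁻¹ * (l * y * l⁻¹ * y) * y⁻¹ * x * y) := by group
        have h2 : x⁻¹ * (l * y * l⁻¹ * y) = (l * y * l⁻¹ * y) * x⁻¹ := hcen _ (inv_mem hx) _ hy'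
        rw [h1, h2]
        have h3 : l * y * l⁻¹ * y * x⁻¹ * y⁻¹ * x * y = (l * y * l⁻¹ * y) * (x⁻¹ * y⁻¹ * x⁻¹⁻¹ * y⁻¹⁻¹) := by group
        rw [h3]
        exact mul_mem hx' (mul_mem hy' (Cfsg.Agent.H374.FR.Comm.com' _ (inv_mem hx) _ (inv_mem hy)))
      inv_mem' := by
        rintro x ⟨hx, hx'⟩
        refine ⟨inv_mem hx, ?_⟩
        have h1 : l * x⁻¹ * l⁻¹ * x⁻¹ = x * (l * x * l⁻¹ * x)⁻¹ * x⁻¹ := by group
        rw [h1, hcen _ hx _ (inv_mem hx'), mul_inv_cancel_right]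
        exact inv_mem hx' }
  have hS : VV K ≤ S := by
    refine RGD.Sup_le fun r hr y hy => ?_
    rw [mem_NotJ] at hr
    obtain ⟨s, hs, rfl⟩ := (isRoot_iff hF cF r).1 hr.1
    have hyV : y ∈ VV K := RGD.le_Sup (mem_NotJ.2 hr) hy
    refine ⟨hyV, ?_⟩
    rcases tabV2 s (by rw [← nroots]; exact hs) hr.2 with h | h
    · have C := (coords (K := K) hF cF p).coord _ hr.1
      obtain ⟨a, rfl⟩ := (C.mem y).1 hy
      rw [neg_one hl hl1 hc (by rw [← nroots]; exact hs) h, ← C.add, neg_add_cancel, C.zero]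
      exact one_mem _
    · subst h
      rw [comm_theta (le_sup_right (a := VV K) hl) hy, mul_inv_cancel_right]
      exact mul_mem hy hy
  exact (hS hx).2

theorem mem_of_comm (h2 : (2 : K) ≠ 0) {l : ↥(chevF4.group K)} (hl : l ∈ MM K) (hl1 : l ≠ 1)
    (hc : ∀ m ∈ MM K, m * l = l * m) {x : ↥(chevF4.group K)} (hx : x ∈ VV K) (h : x * l * x⁻¹ * l⁻¹ ∈ XT K) :
    x ∈ XT K := by
  obtain ⟨p, hpc⟩ := CharP.exists K
  have : Fact p.Prime := ⟨CharP.char_is_prime K p⟩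
  have hW := finite_W hF cF
  have h1 := conj_mul hl hl1 hc hx
  have h3 : x * x = (x * l * x⁻¹ * l⁻¹) * (l * x * l⁻¹ * x) := by group
  have h4 : x * x ∈ XT K := by
    rw [h3]
    exact mul_mem h h1
  have hpp : Odd p := by
    refine (Fact.out : p.Prime).odd_of_ne_two ?_
    rintro rfl
    exact h2 (by exact_mod_cast CharP.cast_eq_zero K 2)
  obtain ⟨k, hk⟩ := ((rgd (K := K) hF cF p).isPGroup_Upos) ⟨x, VJ_le_U J3 hx⟩
  have hk' : x ^ p ^ k = 1 := congrArg Subtype.val hk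
  obtain ⟨t, ht⟩ : ∃ t, p ^ k + 1 = 2 * t := by
    obtain ⟨t, ht⟩ := hpp.pow (n := k)
    exact ⟨t + 1, by omega⟩
  have h5 : x = (x * x) ^ t := by
    rw [← pow_two, ← pow_mul, ← ht, pow_succ, hk', one_mul]
  rw [h5]
  exact pow_mem h4 t

set_option linter.unusedVariables false in
/-- **box (X), part (c)** -/
theorem central (h2 : (2 : K) ≠ 0) (h3 : 3 ≤ Nat.card K) {l : ↥(chevF4.group K)} (hl : l ∈ MM K) (hl1 : l ≠ 1)
    (hc : ∀ m ∈ MM K, m * l = l * m) :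
    Nat.card {x : ↥(VV K) // (x : ↥(chevF4.group K)) * l * (x : ↥(chevF4.group K))⁻¹ * l⁻¹ ∈ XT K} ≤
      Nat.card K ^ 12 := by
  have h4 : Nat.card {x : ↥(VV K) // (x : ↥(chevF4.group K)) * l * (x : ↥(chevF4.group K))⁻¹ * l⁻¹ ∈ XT K} ≤
      Nat.card ↥(XT K) := by
    refine Nat.card_le_card_of_injective (fun x => (⟨x.1.1, mem_of_comm h2 hl hl1 hc x.1.2 x.2⟩ : ↥(XT K))) ?_
    intro x y hxy
    exact Subtype.ext (Subtype.ext (congrArg (fun z : ↥(XT K) => (z : ↥(chevF4.group K))) hxy))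
  rw [Cfsg.Agent.H744.FC.card_X K isRoot_theta] at h4
  exact h4.trans (Nat.le_self_pow (by norm_num) _)

end Cfsg.Agent.H744.FR
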